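import Cfsg.Agent.Spor.LyUG.D0
import Cfsg.Agent.Spor.LyK.D0

set_option autoImplicit false
set_option maxRecDepth 100000000
set_option Elab.async false

namespace Cfsg.Agent.Spor.LyUG

theorem TTok : PA.gensOk LyM.A TT 7 = true := by decide +kernel

theorem TUok : PA.gensOk LyM.A TU 11 = true := by decide +kernel

theorem r0 : PA.isW LyM.A TT [0, 0] LyM.A.one = true := by decide +kernel

theorem r1 : PA.isW LyM.A TT [2, 2] LyM.A.one = true := by decide +kernel

theorem r2 : PA.isW LyM.A TT [4, 4] LyM.A.one = true := by decide +kernel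

theorem r3 : PA.isW LyM.A TT [6, 6] LyM.A.one = true := by decide +kernel

theorem r4 : PA.isW LyM.A TT [8, 8] LyM.A.one = true := by decide +kernel

theorem r5 : PA.isW LyM.A TT [10, 10, 10] LyM.A.one = true := by decide +kernel

theorem r6 : PA.isW LyM.A TT [10, 2, 10, 2] LyM.A.one = true := by decide +kernel

theorem r7 : PA.isW LyM.A TT [10, 4, 10, 4, 10, 4] LyM.A.one = true := by decide +kernel

theorem r8 : PA.isW LyM.A TT [2, 4, 10, 0, 10, 4, 2, 0] LyM.A.one = true := by decide +kernel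

theorem r9 : PA.isW LyM.A TT [4, 10, 4, 2, 4, 2, 4, 2, 4, 10, 4, 2, 4, 2, 4, 2] LyM.A.one = true := by decide +kernel

theorem r10 : PA.isW LyM.A TT [2, 6, 0, 10, 6, 11, 2, 0] LyM.A.one = true := by decide +kernel

theorem r11 : PA.isW LyM.A TT [2, 0, 2, 0] LyM.A.one = true := by decide +kernel

theorem r12 : PA.isW LyM.A TT [6, 2, 4, 2, 4, 2, 4, 2, 6, 4] LyM.A.one = true := by decide +kernel

theorem r13 : PA.isW LyM.A TT [10, 4, 2, 4, 2, 4, 11, 6, 2, 4, 10, 4, 2, 0, 6] LyM.A.one = true := by decide +kernel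

theorem r14 : PA.isW LyM.A TT [0, 11, 6, 10, 6, 0, 6] LyM.A.one = true := by decide +kernel

end Cfsg.Agent.Spor.LyUG
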