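import Cfsg.Agent.Spor.LyUG.D0
import Cfsg.Agent.Spor.LyK.D0

set_option autoImplicit false
set_option maxRecDepth 100000000
set_option Elab.async false

namespace Cfsg.Agent.Spor.LyUG

theorem r15 : PA.isW LyM.A TT [2, 10, 6, 0, 2, 6, 2, 0, 6, 2, 0, 6] LyM.A.one = true := by decide +kernel

theorem r16 : PA.isW LyM.A TT [12, 12, 12] LyM.A.one = true := by decide +kernel

theorem r17 : PA.isW LyM.A TT [0, 12, 0, 13] LyM.A.one = true := by decide +kernel

theorem r18 : PA.isW LyM.A TT [2, 12, 2, 12] LyM.A.one = true := by decide +kernel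

theorem r19 : PA.isW LyM.A TT [4, 12, 4, 13] LyM.A.one = true := by decide +kernel

theorem r20 : PA.isW LyM.A TT [6, 12, 6, 13] LyM.A.one = true := by decide +kernel

theorem r21 : PA.isW LyM.A TT [10, 12, 11, 13] LyM.A.one = true := by decide +kernel

theorem r22 : PA.isW LyM.A TT [8, 2, 8, 13, 11, 2] LyM.A.one = true := by decide +kernel

theorem r23 : PA.isW LyM.A TT [8, 4, 8, 4] LyM.A.one = true := by decide +kernel

theorem r24 : PA.isW LyM.A TT [8, 10, 8, 13, 10] LyM.A.one = true := by decide +kernel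

theorem r25 : PA.isW LyM.A TT [8, 12, 8, 13] LyM.A.one = true := by decide +kernel

theorem r26 : PA.isW LyM.A TT [0, 8, 0, 8, 0, 8] LyM.A.one = true := by decide +kernel

theorem r27 : PA.isW LyM.A TT [6, 8, 6, 8, 6, 8, 6, 8, 6, 8] LyM.A.one = true := by decide +kernel

theorem r28 : PA.isW LyM.A TT [0, 6, 0, 8, 0, 6, 0, 8, 0, 6, 0, 8, 0, 6, 0, 8, 0, 6, 0, 8] LyM.A.one = true := by decide +kernel

theorem y0 : PA.isW LyM.A TU [0, 0, 0] LyM.A.one = true := by decide +kernel

theorem y1 : PA.isW LyM.A TU [2, 2, 2] LyM.A.one = true := by decide +kernel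

theorem y2 : PA.isW LyM.A TU [0, 2, 1, 3] LyM.A.one = true := by decide +kernel

theorem y3 : PA.isW LyM.A TU [0, 4, 1, 5] LyM.A.one = true := by decide +kernel

theorem y4 : PA.isW LyM.A TU [0, 6, 1, 7] LyM.A.one = true := by decide +kernel

theorem y5 : PA.isW LyM.A TU [2, 4, 3, 5] LyM.A.one = true := by decide +kernel

theorem y6 : PA.isW LyM.A TU [2, 6, 3, 7] LyM.A.one = true := by decide +kernel

theorem y7 : PA.isW LyM.A TU [16, 0, 17, 0] LyM.A.one = true := by decide +kernel

end Cfsg.Agent.Spor.LyUG
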