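import Cfsg.Agent.Spor.LyUG.D0
import Cfsg.Agent.Spor.LyK.D0

set_option autoImplicit false
set_option maxRecDepth 100000000
set_option Elab.async false

namespace Cfsg.Agent.Spor.LyUG

theorem y8 : PA.isW LyM.A TU [16, 2, 17, 2] LyM.A.one = true := by decide +kernel

theorem y9 : PA.isW LyM.A TU [8, 0, 9, 3, 3] LyM.A.one = true := by decide +kernel

theorem y10 : PA.isW LyM.A TU [8, 2, 9, 1] LyM.A.one = true := by decide +kernel

theorem y11 : PA.isW LyM.A TU [10, 0, 11, 3, 1, 1] LyM.A.one = true := by decide +kernel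

theorem y12 : PA.isW LyM.A TU [10, 2, 11, 3, 1] LyM.A.one = true := by decide +kernel

theorem y13 : PA.isW LyM.A TU [12, 0, 13, 3, 1] LyM.A.one = true := by decide +kernel

theorem y14 : PA.isW LyM.A TU [12, 2, 13, 3, 3, 1] LyM.A.one = true := by decide +kernel

theorem y15 : PA.isW LyM.A TU [15, 14, 15, 14] LyM.A.one = true := by decide +kernel

theorem y16 : PA.isW LyM.A TU [0, 15, 0, 14, 1, 15, 1, 14, 5, 5] LyM.A.one = true := by decide +kernel

theorem y17 : PA.isW LyM.A TU [2, 15, 2, 14, 3, 15, 3, 14, 21] LyM.A.one = true := by decide +kernel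

theorem y18 : PA.isW LyM.A TU [0, 0, 15, 0, 0, 14, 1, 1, 15, 1, 1, 14, 5, 5] LyM.A.one = true := by decide +kernel

theorem y19 : PA.isW LyM.A TU [0, 2, 15, 0, 2, 14, 3, 1, 15, 3, 1, 14, 21, 21] LyM.A.one = true := by decide +kernel

theorem y20 : PA.isW LyM.A TU [2, 2, 15, 2, 2, 14, 3, 3, 15, 3, 3, 14, 21] LyM.A.one = true := by decide +kernel

theorem y21 : PA.isW LyM.A TU [0, 0, 2, 15, 0, 0, 2, 14, 3, 1, 1, 15, 3, 1, 1, 14, 5] LyM.A.one = true := by decide +kernel

end Cfsg.Agent.Spor.LyUG
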