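import Cfsg.Agent.Spor.LyUG.D0
import Cfsg.Agent.Spor.LyK.D0

set_option autoImplicit false
set_option maxRecDepth 100000000
set_option Elab.async false

namespace Cfsg.Agent.Spor.LyUG

theorem y22 : PA.isW LyM.A TU [0, 2, 2, 15, 0, 2, 2, 14, 3, 3, 1, 15, 3, 3, 1, 14, 5] LyM.A.one = true := by decide +kernel

theorem y23 : PA.isW LyM.A TU [0, 0, 2, 2, 15, 0, 0, 2, 2, 14, 3, 3, 1, 1, 15, 3, 3, 1, 1, 14, 21, 21] LyM.A.one = true := by decide +kernel

theorem y24 : PA.isW LyM.A TU [0, 15, 9, 0, 8, 14, 1, 15, 9, 1, 8, 14, 5, 5, 21, 21] LyM.A.one = true := by decide +kernel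

theorem y25 : PA.isW LyM.A TU [2, 15, 13, 2, 12, 14, 3, 15, 13, 3, 12, 14, 5, 21, 21] LyM.A.one = true := by decide +kernel

theorem y26 : PA.isW LyM.A TU [2, 2, 15, 13, 2, 2, 12, 14, 3, 3, 15, 13, 3, 3, 12, 14, 5, 21, 21] LyM.A.one = true := by decide +kernel

theorem y27 : PA.isW LyM.A TU [19, 2, 18, 9, 1, 8] LyM.A.one = true := by decide +kernel

theorem y28 : PA.isW LyM.A TU [19, 13, 9, 9, 2, 8, 8, 12, 18, 13, 9, 1, 8, 12] LyM.A.one = true := by decide +kernel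

end Cfsg.Agent.Spor.LyUG
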