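import Cfsg.Agent.Spor.LyUG.D0
import Cfsg.Agent.Spor.LyK.D0

set_option autoImplicit false
set_option maxRecDepth 100000000
set_option Elab.async false

namespace Cfsg.Agent.Spor.LyUG

theorem y29 : PA.isW LyM.A TU [19, 13, 9, 2, 8, 12, 18, 6, 13, 11, 9, 1, 8, 10, 12, 7] LyM.A.one = true := by decide +kernel

theorem w0 : PA.isW LyM.A TT [6, 8, 6, 2, 4, 10, 6, 8, 6, 4, 2, 0, 6, 8, 6] (nth LyM.A.one TU (2 * 0)) = true := by decide +kernel

theorem w1 : PA.isW LyM.A TT [8, 6, 10, 0, 8, 6, 4, 2, 6, 8, 6, 2, 8, 6, 8, 0, 11, 6, 8] (nth LyM.A.one TU (2 * 1)) = true := by decide +kernel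

theorem w2 : PA.isW LyM.A TT [6, 10, 6, 2, 4, 6, 2, 4, 11, 2, 4, 2, 4, 2, 4, 2] (nth LyM.A.one TU (2 * 2)) = true := by decide +kernel

theorem w3 : PA.isW LyM.A TT [4, 2, 6, 11, 4, 2, 6, 11, 4, 2, 4, 2, 4, 2, 4, 2] (nth LyM.A.one TU (2 * 3)) = true := by decide +kernel

theorem w4 : PA.isW LyM.A TT [2, 10, 4, 2, 4, 10] (nth LyM.A.one TU (2 * 4)) = true := by decide +kernel

theorem w5 : PA.isW LyM.A TT [2, 4, 6, 11, 4, 2, 6, 11] (nth LyM.A.one TU (2 * 5)) = true := by decide +kernel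

theorem w6 : PA.isW LyM.A TT [0, 4, 2, 10, 4, 2, 10, 4, 2, 10, 4, 11] (nth LyM.A.one TU (2 * 6)) = true := by decide +kernel

theorem w7 : PA.isW LyM.A TT [4, 11, 6, 2, 4, 6, 2, 6] (nth LyM.A.one TU (2 * 7)) = true := by decide +kernel

end Cfsg.Agent.Spor.LyUG
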