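import Cfsg.Agent.Spor.LyUG.D0
import Cfsg.Agent.Spor.LyK.D0

set_option autoImplicit false
set_option maxRecDepth 100000000
set_option Elab.async false

namespace Cfsg.Agent.Spor.LyUG

theorem w8 : PA.isW LyM.A TT [4, 2, 4, 2, 4, 2, 4, 2] (nth LyM.A.one TU (2 * 8)) = true := by decide +kernel

theorem w9 : PA.isW LyM.A TT [0, 10] (nth LyM.A.one TU (2 * 9)) = true := by decide +kernel

theorem w10 : PA.isW LyM.A TT [12] (nth LyM.A.one TU (2 * 10)) = true := by decide +kernel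

theorem c0 : PA.isW LyM.A TT [4, 6, 2, 6, 11, 4, 2, 6, 10, 4, 13] (nth LyM.A.one LyK.TC (2 * 0)) = true := by decide +kernel

theorem c1 : PA.isW LyM.A TT [0, 6, 8, 4, 2, 6, 8, 2, 0, 6, 8, 6, 0, 4, 2, 11, 6, 2, 4, 8, 6, 10, 13] (nth LyM.A.one LyK.TC (2 * 1)) = true := by decide +kernel

theorem c2 : PA.isW LyM.A TT [4, 10, 2, 4, 6, 10, 2, 4] (nth LyM.A.one LyK.TC (2 * 2)) = true := by decide +kernel

theorem c3 : PA.isW LyM.A TT [4, 6, 2, 4, 11, 2, 6, 4, 2, 6, 2, 6] (nth LyM.A.one LyK.TC (2 * 3)) = true := by decide +kernel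

theorem cx : PA.isW LyM.A TT [12] LyK.gx = true := by decide +kernel

theorem sx : PA.neq LyM.A (PA.evw LyM.A TT [2, 12] LyM.A.one) (PA.evw LyM.A TT [12, 2] LyM.A.one) = true := by decide +kernel

end Cfsg.Agent.Spor.LyUG
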