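import Cfsg.Agent.Spor.LyK.Main
import Cfsg.Agent.Spor.LyUY.D0
import Cfsg.Agent.Spor.LyUG.C0
import Cfsg.Agent.Spor.LyUG.C1
import Cfsg.Agent.Spor.LyUG.C2
import Cfsg.Agent.Spor.LyUG.C3
import Cfsg.Agent.Spor.LyUG.C4
import Cfsg.Agent.Spor.LyUG.C5

set_option autoImplicit false
set_option maxRecDepth 100000000
set_option Elab.async false

namespace Cfsg.Agent.Spor.LyUG

noncomputable abbrev F : ℕ → GL (Fin LyM.A.d) (ZMod 5) := LyM.Ω.gen TT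
theorem gF : LyM.Ω.Gens TT (atm 7 F) := MRep.gl_gens TTok
theorem presF : Pres 7 5 (LyUY.RK ++ LyUY.RM1) F :=
  MRep.pres_of_sqL (gF.all_one (show AllP (fun w => PA.isW LyM.A TT w LyM.A.one = true) [[0, 0], [2, 2], [4, 4], [6, 6], [8, 8], [10, 10, 10], [10, 2, 10, 2], [10, 4, 10, 4, 10, 4], [2, 4, 10, 0, 10, 4, 2, 0], [4, 10, 4, 2, 4, 2, 4, 2, 4, 10, 4, 2, 4, 2, 4, 2], [2, 6, 0, 10, 6, 11, 2, 0], [2, 0, 2, 0], [6, 2, 4, 2, 4, 2, 4, 2, 6, 4], [10, 4, 2, 4, 2, 4, 11, 6, 2, 4, 10, 4, 2, 0, 6], [0, 11, 6, 10, 6, 0, 6], [2, 10, 6, 0, 2, 6, 2, 0, 6, 2, 0, 6], [12, 12, 12], [0, 12, 0, 13], [2, 12, 2, 12], [4, 12, 4, 13], [6, 12, 6, 13], [10, 12, 11, 13], [8, 2, 8, 13, 11, 2], [8, 4, 8, 4], [8, 10, 8, 13, 10], [8, 12, 8, 13], [0, 8, 0, 8, 0, 8], [6, 8, 6, 8, 6, 8, 6, 8, 6, 8], [0, 6, 0, 8, 0, 6, 0, 8, 0,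 6, 0, 8, 0, 6, 0, 8, 0, 6, 0, 8]] from AllP.cons r0 (AllP.cons r1 (AllP.cons r2 (AllP.cons r3 (AllP.cons r4 (AllP.cons r5 (AllP.cons r6 (AllP.cons r7 (AllP.cons r8 (AllP.cons r9 (AllP.cons r10 (AllP.cons r11 (AllP.cons r12 (AllP.cons r13 (AllP.cons r14 (AllP.cons r15 (AllP.cons r16 (AllP.cons r17 (AllP.cons r18 (AllP.cons r19 (AllP.cons r20 (AllP.cons r21 (AllP.cons r22 (AllP.cons r23 (AllP.cons r24 (AllP.cons r25 (AllP.cons r26 (AllP.cons r27 (AllP.cons r28 (AllP.nil)))))))))))))))))))))))))))))))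
theorem gU : LyM.Ω.Gens TU (atm 11 (LyM.Ω.gen TU)) := MRep.gl_gens TUok
theorem eU : ∀ j < 11, LyM.Ω.gen TU j = wv 7 F LyUY.WD j := fun j hj => by
  interval_cases j
  exacts [(gF.isW w0).2, (gF.isW w1).2, (gF.isW w2).2, (gF.isW w3).2, (gF.isW w4).2, (gF.isW w5).2, (gF.isW w6).2, (gF.isW w7).2, (gF.isW w8).2, (gF.isW w9).2, (gF.isW w10).2]
theorem relU : ∀ l ∈ LyUY.RY1, ev (atm 11 (wv 7 F LyUY.WD)) l = 1 := by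
  rw [← atm_congr eU]
  exact gU.all_one (show AllP (fun w => PA.isW LyM.A TU w LyM.A.one = true) [[0, 0, 0], [2, 2, 2], [0, 2, 1, 3], [0, 4, 1, 5], [0, 6, 1, 7], [2, 4, 3, 5], [2, 6, 3, 7], [16, 0, 17, 0], [16, 2, 17, 2], [8, 0, 9, 3, 3], [8, 2, 9, 1], [10, 0, 11, 3, 1, 1], [10, 2, 11, 3, 1], [12, 0, 13, 3, 1], [12, 2, 13, 3, 3, 1], [15, 14, 15, 14], [0, 15, 0, 14, 1, 15, 1, 14, 5, 5], [2, 15, 2, 14, 3, 15, 3, 14, 21], [0, 0, 15, 0, 0, 14, 1, 1, 15, 1, 1, 14, 5, 5], [0, 2, 15, 0, 2, 14, 3, 1, 15, 3, 1, 14, 21, 21], [2, 2, 15, 2, 2, 14, 3, 3, 15, 3, 3, 14, 21], [0, 0, 2, 15, 0, 0, 2, 14, 3, 1, 1, 15, 3, 1, 1, 14, 5], [0, 2, 2, 15, 0, 2, 2, 14, 3, 3, 1, 15, 3, 3, 1, 14, 5], [0, 0, 2, 2, 15, 0, 0, 2, 2, 14, 3, 3, 1, 1, 15, 3, 3, 1, 1, 14, 21, 21], [0, 15, 9, 0, 8, 14, 1, 15, 9, 1, 8, 14, 5, 5, 21,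 21], [2, 15, 13, 2, 12, 14, 3, 15, 13, 3, 12, 14, 5, 21, 21], [2, 2, 15, 13, 2, 2, 12, 14, 3, 3, 15, 13, 3, 3, 12, 14, 5, 21, 21], [19, 2, 18, 9, 1, 8], [19, 13, 9, 9, 2, 8, 8, 12, 18, 13, 9, 1, 8, 12], [19, 13, 9, 2, 8, 12, 18, 6, 13, 11, 9, 1, 8, 10, 12, 7]] from AllP.cons y0 (AllP.cons y1 (AllP.cons y2 (AllP.cons y3 (AllP.cons y4 (AllP.cons y5 (AllP.cons y6 (AllP.cons y7 (AllP.cons y8 (AllP.cons y9 (AllP.cons y10 (AllP.cons y11 (AllP.cons y12 (AllP.cons y13 (AllP.cons y14 (AllP.cons y15 (AllP.cons y16 (AllP.cons y17 (AllP.cons y18 (AllP.cons y19 (AllP.cons y20 (AllP.cons y21 (AllP.cons y22 (AllP.cons y23 (AllP.cons y24 (AllP.cons y25 (AllP.cons y26 (AllP.cons y27 (AllP.cons y28 (AllP.cons y29 (AllP.nil)))))))))))))))))))))))))))))))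
theorem coe_el {x : ℕ} (h : LyM.X.M x) : LyM.Ω.el x = (LyM.X.el x : LyM.H) := MRep.el_eq h.ρ_el
theorem memC : ∀ j < 4, ((LyM.X.gen LyK.TC j : LyM.H) : GL (Fin LyM.A.d) (ZMod 5)) ∈ gsub 7 F := fun j hj => by
  refine coe_el (LyK.gTC (2 * j)).1 ▸ ?_
  interval_cases j
  exacts [(gF.isW c0).2 ▸ ev_atm_mem _ _ _, (gF.isW c1).2 ▸ ev_atm_mem _ _ _, (gF.isW c2).2 ▸ ev_atm_mem _ _ _, (gF.isW c3).2 ▸ ev_atm_mem _ _ _]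
theorem ex : ((LyM.X.el LyK.gx : LyM.H) : GL (Fin LyM.A.d) (ZMod 5)) = ev (atm 7 F) [12] :=
  (coe_el LyK.hM71).symm.trans (gF.isW cx).2
theorem sxne : ev (atm 7 F) [2, 12] ≠ ev (atm 7 F) [12, 2] := haveI := LyK.instCharP; gF.neq sx

end Cfsg.Agent.Spor.LyUG
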